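import Mathlib

/-!
Arithmetic behind the order bound for nilpotent subgroups of `Sym n` and `Alt n`.
-/

set_option autoImplicit false

open scoped Nat

namespace CfsgLib.PermNilp

/-- The exponent of `2` in `n!`. -/
noncomputable def vTwo (n : ℕ) : ℕ := padicValNat 2 n !

/-- The order of a Sylow `2`-subgroup of `Sym n`. -/
def sylTwo (n : ℕ) : ℕ := Nat.gcd n ! (2 ^ n)

/-- The largest order of a nilpotent subgroup of `Sym n`. -/
def bndSym (n : ℕ) : ℕ := if n % 4 = 3 then 3 * sylTwo (n - 3) else sylTwo n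

/-- The largest order of a nilpotent subgroup of `Alt n`. -/
def bndAlt (n : ℕ) : ℕ :=
  if n = 0 ∨ n = 1 then 1 else if n = 3 then 3 else if n = 5 then 5 else if n = 6 then 9
  else if n = 9 then 81 else bndSym n / 2

theorem vTwo_zero : vTwo 0 = 0 := by simp [vTwo]

theorem vTwo_succ (n : ℕ) : vTwo (n + 1) = vTwo n + padicValNat 2 (n + 1) := by
  haveI : Fact (Nat.Prime 2) := ⟨Nat.prime_two⟩
  rw [vTwo, Nat.factorial_succ, padicValNat.mul (Nat.succ_ne_zero n) (Nat.factorial_ne_zero n), vTwo,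
    add_comm]

theorem vTwo_two_mul (k : ℕ) : vTwo (2 * k) = vTwo k + k := by
  haveI : Fact (Nat.Prime 2) := ⟨Nat.prime_two⟩
  exact padicValNat_factorial_mul k

theorem vTwo_two_mul_add_one (k : ℕ) : vTwo (2 * k + 1) = vTwo k + k := by
  haveI : Fact (Nat.Prime 2) := ⟨Nat.prime_two⟩
  rw [← vTwo_two_mul]
  exact padicValNat_factorial_mul_add k (by norm_num)

theorem exists_digit_sum (n : ℕ) : ∃ s, vTwo n + s = n ∧ 2 ^ s ≤ n + 1 := by
  induction n using Nat.strong_induction_on with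
  | _ n ih =>
    rcases Nat.eq_zero_or_pos n with rfl | hn
    · exact ⟨0, by simp [vTwo_zero], by norm_num⟩
    rcases Nat.even_or_odd' n with ⟨k, rfl | rfl⟩
    · obtain ⟨s, h1, h2⟩ := ih k (by omega)
      exact ⟨s, by rw [vTwo_two_mul]; omega, by omega⟩
    · obtain ⟨s, h1, h2⟩ := ih k (by omega)
      exact ⟨s + 1, by rw [vTwo_two_mul_add_one]; omega, by rw [pow_succ]; omega⟩

theorem vTwo_le (n : ℕ) : vTwo n ≤ n := by
  obtain ⟨s, h, -⟩ := exists_digit_sum n
  omega

theorem sylTwo_eq (n : ℕ) : sylTwo n = 2 ^ vTwo n := by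
  haveI : Fact (Nat.Prime 2) := ⟨Nat.prime_two⟩
  obtain ⟨k, -, hk⟩ := (Nat.dvd_prime_pow Nat.prime_two).1 (Nat.gcd_dvd_right n ! (2 ^ n))
  have h1 : k ≤ vTwo n := (padicValNat_dvd_iff_le (Nat.factorial_ne_zero n)).1
    (hk ▸ Nat.gcd_dvd_left n ! (2 ^ n))
  have h2 : 2 ^ vTwo n ∣ sylTwo n := Nat.dvd_gcd pow_padicValNat_dvd (pow_dvd_pow 2 (vTwo_le n))
  rw [sylTwo, hk] at h2 ⊢
  rw [Nat.pow_dvd_pow_iff_le_right (by norm_num)] at h2
  rw [le_antisymm h1 h2]

theorem sylTwo_pos (n : ℕ) : 0 < sylTwo n := by rw [sylTwo_eq]; positivity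

theorem sylTwo_eq_factorization (n : ℕ) : sylTwo n = 2 ^ (n !).factorization 2 := by
  rw [sylTwo_eq, vTwo, Nat.factorization_def _ Nat.prime_two]

theorem sylTwo_mul_le (a b : ℕ) : sylTwo a * sylTwo b ≤ sylTwo (a + b) := by
  haveI : Fact (Nat.Prime 2) := ⟨Nat.prime_two⟩
  rw [sylTwo_eq, sylTwo_eq, sylTwo_eq, ← pow_add]
  refine Nat.pow_le_pow_right (by norm_num) ?_
  refine (padicValNat_dvd_iff_le (Nat.factorial_ne_zero _)).1 ?_
  rw [pow_add]
  exact (Nat.mul_dvd_mul pow_padicValNat_dvd pow_padicValNat_dvd).trans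
    (Nat.factorial_mul_factorial_dvd_factorial_add a b)

theorem sylTwo_mono {a b : ℕ} (h : a ≤ b) : sylTwo a ≤ sylTwo b := by
  obtain ⟨c, rfl⟩ := Nat.exists_eq_add_of_le h
  calc sylTwo a ≤ sylTwo a * sylTwo c := Nat.le_mul_of_pos_right _ (sylTwo_pos c)
    _ ≤ _ := sylTwo_mul_le a c

theorem val_odd {x : ℕ} (h : x % 2 = 1) : padicValNat 2 x = 0 :=
  padicValNat.eq_zero_of_not_dvd (by omega)

theorem val_four {x : ℕ} (h : x % 4 = 0) (hx : x ≠ 0) : 2 ≤ padicValNat 2 x := by
  haveI : Fact (Nat.Prime 2) := ⟨Nat.prime_two⟩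
  exact (padicValNat_dvd_iff_le hx).1 (by norm_num; omega)

theorem val_two {x : ℕ} (h : x % 4 = 2) : padicValNat 2 x = 1 := by
  haveI : Fact (Nat.Prime 2) := ⟨Nat.prime_two⟩
  have h1 : 1 ≤ padicValNat 2 x := (padicValNat_dvd_iff_le (by omega)).1 (by norm_num; omega)
  have h2 : ¬ 2 ≤ padicValNat 2 x := fun e => by
    have := (padicValNat_dvd_iff_le (p := 2) (show x ≠ 0 by omega)).2 e
    norm_num at this; omega
  omega

theorem sylTwo_add_three {c : ℕ} (hc : c % 4 = 0) : sylTwo (c + 3) = 2 * sylTwo c := by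
  rw [sylTwo_eq, sylTwo_eq, vTwo_succ, vTwo_succ, vTwo_succ, val_odd (show (c + 2 + 1) % 2 = 1 by omega),
    val_two (show (c + 1 + 1) % 4 = 2 by omega), val_odd (show (c + 1) % 2 = 1 by omega)]
  ring

theorem four_mul_sylTwo_le {c : ℕ} (hc : c % 4 ≠ 0) : 4 * sylTwo c ≤ sylTwo (c + 3) := by
  rw [sylTwo_eq, sylTwo_eq, show 4 = 2 ^ 2 from rfl, ← pow_add]
  refine Nat.pow_le_pow_right (by norm_num) ?_
  rw [vTwo_succ, vTwo_succ, vTwo_succ]
  rcases (show c % 4 = 1 ∨ c % 4 = 2 ∨ c % 4 = 3 by omega) with h | h | h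
  · have := val_four (show (c + 2 + 1) % 4 = 0 by omega) (by omega)
    omega
  · have := val_four (show (c + 1 + 1) % 4 = 0 by omega) (by omega)
    omega
  · have := val_four (show (c + 1) % 4 = 0 by omega) (by omega)
    omega

theorem sylTwo_add_six {c : ℕ} (hc : c % 4 = 0) : 9 * sylTwo c ≤ sylTwo (c + 6) := by
  have h1 := sylTwo_add_three hc
  have h2 := four_mul_sylTwo_le (c := c + 3) (by omega)
  rw [show c + 3 + 3 = c + 6 by omega, h1] at h2
  by_contra hne
  -- `16 ≤ ` is needed once more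
  have h3 : sylTwo (c + 6) = 2 ^ (vTwo (c + 6)) := sylTwo_eq _
  have h4 := val_four (show (c + 3 + 1) % 4 = 0 by omega) (by omega)
  have h5 : vTwo c + 4 ≤ vTwo (c + 6) := by
    rw [vTwo_succ, vTwo_succ, vTwo_succ, vTwo_succ, vTwo_succ, vTwo_succ,
      val_two (show (c + 5 + 1) % 4 = 2 by omega), val_two (show (c + 1 + 1) % 4 = 2 by omega)]
    omega
  have h6 : 2 ^ (vTwo c + 4) ≤ 2 ^ (vTwo (c + 6)) := Nat.pow_le_pow_right (by norm_num) h5
  rw [← h3, pow_add, ← sylTwo_eq] at h6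
  omega

theorem sylTwo_le_bndSym (n : ℕ) : sylTwo n ≤ bndSym n := by
  unfold bndSym
  split_ifs with h
  · have := sylTwo_add_three (show (n - 3) % 4 = 0 by omega)
    rw [show n - 3 + 3 = n by omega] at this
    omega
  · exact le_rfl

theorem bndSym_pos (n : ℕ) : 0 < bndSym n := (sylTwo_pos n).trans_le (sylTwo_le_bndSym n)

theorem three_case {a b : ℕ} (ha : a % 4 = 3) (hb : b % 4 ≠ 3) :
    bndSym a * bndSym b ≤ bndSym (a + b) := by
  simp only [bndSym, if_pos ha, if_neg hb]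
  have h1 := sylTwo_mul_le (a - 3) b
  rw [mul_assoc]
  split_ifs with h
  · rw [show a + b - 3 = a - 3 + b by omega]
    exact Nat.mul_le_mul_left 3 h1
  · have h2 := four_mul_sylTwo_le (c := a - 3 + b) (by omega)
    rw [show a - 3 + b + 3 = a + b by omega] at h2
    omega

theorem bndSym_mul (a b : ℕ) : bndSym a * bndSym b ≤ bndSym (a + b) := by
  by_cases ha : a % 4 = 3
  · by_cases hb : b % 4 = 3
    · simp only [bndSym, if_pos ha, if_pos hb, if_neg (show ¬ (a + b) % 4 = 3 by omega)]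
      have h2 := sylTwo_add_six (c := a - 3 + (b - 3)) (by omega)
      rw [show a - 3 + (b - 3) + 6 = a + b by omega] at h2
      have h1 := sylTwo_mul_le (a - 3) (b - 3)
      calc 3 * sylTwo (a - 3) * (3 * sylTwo (b - 3)) = 9 * (sylTwo (a - 3) * sylTwo (b - 3)) := by ring
        _ ≤ 9 * sylTwo (a - 3 + (b - 3)) := Nat.mul_le_mul_left 9 h1
        _ ≤ _ := h2
    · exact three_case ha hb
  · by_cases hb : b % 4 = 3
    · rw [mul_comm, add_comm a b]; exact three_case hb ha
    · simp only [bndSym, if_neg ha, if_neg hb]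
      split_ifs with h
      · have := sylTwo_add_three (c := a + b - 3) (by omega)
        rw [show a + b - 3 + 3 = a + b by omega] at this
        have h1 := sylTwo_mul_le a b
        omega
      · exact sylTwo_mul_le a b

/-- The exceptional degrees for `bndAlt`. -/
def altExc : List ℕ := [0, 1, 3, 5, 6, 9]

theorem two_mul_bndAlt {n : ℕ} (hn : n ∉ altExc) : 2 * bndAlt n = bndSym n := by
  simp only [altExc, List.mem_cons, List.not_mem_nil, or_false, not_or] at hn
  obtain ⟨h0, h1, h3, h5, h6, h9⟩ := hn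
  simp only [bndAlt, h0, h1, h3, h5, h6, h9, or_self, if_false]
  refine Nat.mul_div_cancel' ?_
  unfold bndSym
  have key : ∀ k, 2 ≤ k → 2 ∣ sylTwo k := fun k hk =>
    Nat.dvd_gcd (Nat.dvd_factorial (by norm_num) hk) (dvd_pow_self 2 (by omega))
  split_ifs with h
  · exact (key _ (by omega)).mul_left 3
  · exact key _ (by omega)

theorem bndAlt_le (n : ℕ) : bndAlt n ≤ bndSym n := by
  by_cases hn : n ∈ altExc
  · simp only [altExc, List.mem_cons, List.not_mem_nil, or_false] at hn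
    rcases hn with rfl | rfl | rfl | rfl | rfl | rfl <;> decide +kernel
  · have := two_mul_bndAlt hn; omega

theorem bndSym_le_two_mul (n : ℕ) : bndSym n ≤ 2 * bndAlt n := by
  by_cases hn : n ∈ altExc
  · simp only [altExc, List.mem_cons, List.not_mem_nil, or_false] at hn
    rcases hn with rfl | rfl | rfl | rfl | rfl | rfl <;> decide +kernel
  · exact (two_mul_bndAlt hn).ge

theorem bndAlt_mul (a b : ℕ) : bndAlt a * bndAlt b ≤ bndAlt (a + b) := by
  have key : ∀ a b, a ∉ altExc → bndAlt a * bndAlt b ≤ bndAlt (a + b) := by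
    intro a b ha
    have h : 2 * (bndAlt a * bndAlt b) ≤ 2 * bndAlt (a + b) := by
      calc 2 * (bndAlt a * bndAlt b) = bndSym a * bndAlt b := by rw [← mul_assoc, two_mul_bndAlt ha]
        _ ≤ bndSym a * bndSym b := Nat.mul_le_mul_left _ (bndAlt_le b)
        _ ≤ bndSym (a + b) := bndSym_mul a b
        _ ≤ _ := bndSym_le_two_mul _
    omega
  by_cases ha : a ∈ altExc
  · by_cases hb : b ∈ altExc
    · exact (show ∀ x ∈ altExc, ∀ y ∈ altExc, bndAlt x * bndAlt y ≤ bndAlt (x + y) by decide +kernel) a ha b hb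
    · rw [mul_comm, add_comm a b]; exact key b a hb
  · exact key a b ha

/-- The bound for a transitive nilpotent group. -/
def transBound (n : ℕ) : ℕ := ∏ p ∈ n.primeFactors, p ^ ((p ^ n.factorization p - 1) / (p - 1))

theorem geom_dvd (p a : ℕ) : p - 1 ∣ p ^ a - 1 := by simpa using Nat.sub_dvd_pow_sub_pow p 1 a

theorem val_factorial_prime_pow {p : ℕ} (hp : p.Prime) (a : ℕ) :
    padicValNat p (p ^ a)! = (p ^ a - 1) / (p - 1) := by
  haveI : Fact p.Prime := ⟨hp⟩
  have h2 := hp.two_le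
  have h : ∀ a, (p - 1) * padicValNat p (p ^ a)! + 1 = p ^ a := by
    intro a
    induction a with
    | zero => simp
    | succ a ih =>
      rw [pow_succ', padicValNat_factorial_mul, mul_add, add_right_comm, ih]
      obtain ⟨k, rfl⟩ : ∃ k, p = k + 1 := ⟨p - 1, by omega⟩
      rw [Nat.add_sub_cancel]; ring
  refine (Nat.div_eq_of_eq_mul_right (by omega) ?_).symm
  have := h a
  omega

theorem pow_five_le (k : ℕ) : (k + 3) ^ 5 ≤ 2 ^ (4 * (k + 2)) := by
  induction k with
  | zero => norm_num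
  | succ k ih =>
    have h : (k + 1 + 3) ^ 5 ≤ 16 * (k + 3) ^ 5 := by
      have h1 : 3 * (k + 4) ≤ 4 * (k + 3) := by omega
      have h2 := Nat.pow_le_pow_left h1 5
      rw [mul_pow, mul_pow] at h2
      norm_num at h2
      show (k + 4) ^ 5 ≤ _
      omega
    calc (k + 1 + 3) ^ 5 ≤ 16 * (k + 3) ^ 5 := h
      _ ≤ 16 * 2 ^ (4 * (k + 2)) := Nat.mul_le_mul_left _ ih
      _ = 2 ^ (4 * (k + 1 + 2)) := by rw [show 4 * (k + 1 + 2) = 4 * (k + 2) + 4 by ring, pow_add]; ring

theorem sum_sub_one_le {ι : Type*} (s : Finset ι) (f : ι → ℕ) (hf : ∀ i ∈ s, 1 ≤ f i) :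
    ∑ i ∈ s, (f i - 1) + 1 ≤ ∏ i ∈ s, f i := by
  classical
  induction s using Finset.induction_on with
  | empty => simp
  | insert i s hi ih =>
    rw [Finset.sum_insert hi, Finset.prod_insert hi]
    have h1 : 1 ≤ f i := hf i (Finset.mem_insert_self i s)
    have h2 := ih fun j hj => hf j (Finset.mem_insert_of_mem hj)
    have h3 : 1 ≤ ∏ j ∈ s, f j :=
      Nat.one_le_iff_ne_zero.2 (Finset.prod_ne_zero_iff.2 fun j hj => by
        have := hf j (Finset.mem_insert_of_mem hj); omega)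
    obtain ⟨x, hx⟩ := Nat.exists_eq_add_of_le h1
    obtain ⟨y, hy⟩ := Nat.exists_eq_add_of_le h3
    rw [hy] at h2 ⊢
    rw [hx, Nat.add_sub_cancel_left]
    nlinarith

theorem transBound_odd {o : ℕ} (ho : o % 2 = 1) : transBound o ^ 5 ≤ 2 ^ (4 * (o - 1)) := by
  have hle : ∀ p ∈ o.primeFactors,
      (p ^ ((p ^ o.factorization p - 1) / (p - 1))) ^ 5 ≤ 2 ^ (4 * (p ^ o.factorization p - 1)) := by
    intro p hp
    obtain ⟨hpp, hdvd, -⟩ := Nat.mem_primeFactors.1 hp
    have hp2 : p ≠ 2 := by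
      rintro rfl
      omega
    obtain ⟨k, rfl⟩ : ∃ k, p = k + 3 := ⟨p - 3, by have := hpp.two_le; omega⟩
    obtain ⟨e, he⟩ := geom_dvd (k + 3) (o.factorization (k + 3))
    rw [he, show k + 3 - 1 = k + 2 by omega, Nat.mul_div_cancel_left e (by omega), ← pow_mul, mul_comm e,
      pow_mul, ← mul_assoc, pow_mul 2]
    exact Nat.pow_le_pow_left (pow_five_le k) e
  calc transBound o ^ 5 = ∏ p ∈ o.primeFactors, (p ^ ((p ^ o.factorization p - 1) / (p - 1))) ^ 5 :=
        (Finset.prod_pow _ _ _).symm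
    _ ≤ ∏ p ∈ o.primeFactors, 2 ^ (4 * (p ^ o.factorization p - 1)) := Finset.prod_le_prod' hle
    _ = 2 ^ (4 * ∑ p ∈ o.primeFactors, (p ^ o.factorization p - 1)) := by
        rw [Finset.prod_pow_eq_pow_sum, Finset.mul_sum]
    _ ≤ _ := by
        refine Nat.pow_le_pow_right (by norm_num) (Nat.mul_le_mul_left 4 ?_)
        have h := sum_sub_one_le o.primeFactors (fun p => p ^ o.factorization p)
          (fun p hp => Nat.one_le_pow _ _ (Nat.prime_of_mem_primeFactors hp).pos)
        have e : ∏ p ∈ o.primeFactors, p ^ o.factorization p = o :=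
          Nat.prod_factorization_pow_eq_self (show o ≠ 0 by omega)
        rw [e] at h
        omega

theorem transBound_split {m : ℕ} (hm : m ≠ 0) :
    transBound m = 2 ^ (2 ^ m.factorization 2 - 1) * transBound (ordCompl[2] m) := by
  have hpf : (ordCompl[2] m).primeFactors = m.primeFactors.erase 2 := by
    rw [← Nat.support_factorization, Nat.factorization_ordCompl, Finsupp.support_erase,
      Nat.support_factorization]
  have hc : transBound (ordCompl[2] m) =
      ∏ p ∈ m.primeFactors.erase 2, p ^ ((p ^ m.factorization p - 1) / (p - 1)) := by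
    rw [transBound, hpf]
    refine Finset.prod_congr rfl fun p hp => ?_
    rw [Nat.factorization_ordCompl, Finsupp.erase_ne (Finset.ne_of_mem_erase hp)]
  rw [hc]
  by_cases h2 : 2 ∈ m.primeFactors
  · rw [transBound, ← Finset.mul_prod_erase _ _ h2]
    norm_num
  · rw [Finset.erase_eq_of_notMem h2, ← Nat.support_factorization, Finsupp.notMem_support_iff] at *
    rw [h2, transBound, Nat.support_factorization]
    norm_num

theorem vTwo_pow_mul (a o : ℕ) : vTwo (2 ^ a * o) = (2 ^ a - 1) * o + vTwo o := by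
  induction a with
  | zero => simp
  | succ a ih =>
    rw [pow_succ', mul_assoc, vTwo_two_mul, ih]
    have : 1 ≤ 2 ^ a := Nat.one_le_two_pow
    obtain ⟨x, hx⟩ := Nat.exists_eq_add_of_le this
    rw [hx, show 2 * (1 + x) - 1 = 2 * x + 1 by omega, Nat.add_sub_cancel_left]
    ring

/-- A computable form of `transBound` used in small degrees. -/
def transBoundCalc (n : ℕ) : ℕ :=
  ∏ p ∈ (Finset.range (n + 1)).filter (fun p => p.Prime ∧ p ∣ n), p ^ ((Nat.gcd n (p ^ n) - 1) / (p - 1))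

theorem transBound_eq_calc {n : ℕ} (hn : n ≠ 0) : transBound n = transBoundCalc n := by
  have hpf : n.primeFactors = (Finset.range (n + 1)).filter (fun p => p.Prime ∧ p ∣ n) := by
    ext p
    simp only [Nat.mem_primeFactors, Finset.mem_filter, Finset.mem_range]
    exact ⟨fun ⟨a, b, _⟩ => ⟨Nat.lt_succ_of_le (Nat.le_of_dvd (by omega) b), a, b⟩, fun ⟨_, a, b⟩ => ⟨a, b, hn⟩⟩
  rw [transBound, transBoundCalc, hpf]
  refine Finset.prod_congr rfl fun p hp => ?_
  obtain ⟨-, hpp, -⟩ := Finset.mem_filter.1 hp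
  congr 3
  refine Nat.dvd_antisymm (Nat.dvd_gcd (Nat.ordProj_dvd n p) (pow_dvd_pow p (Nat.factorization_lt p hn).le)) ?_
  obtain ⟨k, -, hk⟩ := (Nat.dvd_prime_pow hpp).1 (Nat.gcd_dvd_right n (p ^ n))
  rw [hk]
  exact pow_dvd_pow p ((hpp.pow_dvd_iff_le_factorization hn).1 (hk ▸ Nat.gcd_dvd_left n (p ^ n)))

theorem small_odd : ∀ o < 25, o % 2 = 1 → o ≠ 1 →
    2 * transBoundCalc o ≤ 2 ^ (o - 1) * sylTwo o ∧
    (o = 3 ∨ o = 5 ∨ o = 9 ∨ 2 * transBoundCalc o ≤ bndSym o) ∧ transBoundCalc o ≤ bndAlt o := by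
  decide +kernel

/-- The transitive bound against the symmetric and alternating bounds. -/
theorem transBound_le {m : ℕ} (hm : m ≠ 0) (ho : ordCompl[2] m ≠ 1) :
    transBound m ≤ bndSym m ∧ transBound m ≤ bndAlt m := by
  suffices h : (m = 3 ∨ m = 5 ∨ m = 9) ∨ 2 * transBound m ≤ bndSym m by
    rcases h with h | h
    · have := small_odd m (by omega) (by omega) (by omega)
      rw [← transBound_eq_calc hm] at this
      exact ⟨this.2.2.trans (bndAlt_le m), this.2.2⟩
    · have := bndSym_le_two_mul m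
      omega
  set o := ordCompl[2] m with hodef
  set a := m.factorization 2 with hadef
  have hmo : 2 ^ a * o = m := Nat.ordProj_mul_ordCompl_eq_self m 2
  have hoodd : o % 2 = 1 := Nat.two_dvd_ne_zero.1 (Nat.not_dvd_ordCompl Nat.prime_two hm)
  have hsplit := transBound_split hm
  rw [← hodef, ← hadef] at hsplit
  clear_value o a
  by_cases h25 : o < 25
  · obtain ⟨h1, h2, -⟩ := small_odd o h25 hoodd ho
    rw [← transBound_eq_calc (by omega)] at h1 h2
    rcases Nat.eq_zero_or_pos a with ha | ha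
    · rw [ha, pow_zero, one_mul] at hmo
      rw [hsplit, ha, pow_zero, Nat.sub_self, pow_zero, one_mul]
      rcases h2 with h2 | h2 | h2 | h2
      · exact Or.inl (Or.inl (hmo ▸ h2))
      · exact Or.inl (Or.inr (Or.inl (hmo ▸ h2)))
      · exact Or.inl (Or.inr (Or.inr (hmo ▸ h2)))
      · exact Or.inr (hmo ▸ h2)
    · right
      refine le_trans ?_ (sylTwo_le_bndSym m)
      rw [hsplit, ← hmo, sylTwo_eq, vTwo_pow_mul, pow_add, ← sylTwo_eq]
      have e : 2 ^ a - 1 + (o - 1) ≤ (2 ^ a - 1) * o := by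
        have : 2 ≤ 2 ^ a := (pow_one 2).ge.trans (Nat.pow_le_pow_right (by norm_num) ha)
        obtain ⟨x, hx⟩ := Nat.exists_eq_add_of_le this
        obtain ⟨y, hy⟩ := Nat.exists_eq_add_of_le (show 1 ≤ o by omega)
        rw [hx, hy, show 2 + x - 1 = x + 1 by omega, show 1 + y - 1 = y by omega]
        nlinarith
      calc 2 * (2 ^ (2 ^ a - 1) * transBound o) = 2 ^ (2 ^ a - 1) * (2 * transBound o) := by ring
        _ ≤ 2 ^ (2 ^ a - 1) * (2 ^ (o - 1) * sylTwo o) := Nat.mul_le_mul_left _ h1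
        _ = 2 ^ (2 ^ a - 1 + (o - 1)) * sylTwo o := by rw [pow_add]; ring
        _ ≤ _ := Nat.mul_le_mul_right _ (Nat.pow_le_pow_right (by norm_num) e)
  · right
    refine le_trans ?_ (sylTwo_le_bndSym m)
    refine (Nat.pow_le_pow_iff_left (show 5 ≠ 0 by norm_num)).1 ?_
    rw [hsplit, ← hmo, mul_pow, mul_pow, sylTwo_eq, vTwo_pow_mul, ← pow_mul, ← pow_mul]
    refine le_trans (Nat.mul_le_mul_left _ (Nat.mul_le_mul_left _ (transBound_odd hoodd))) ?_
    rw [← pow_add, ← pow_add]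
    refine Nat.pow_le_pow_right (by norm_num) ?_
    obtain ⟨s, hs1, hs2⟩ := exists_digit_sum o
    have hs : 5 * s + 1 ≤ o := by
      rcases lt_or_ge s 5 with h | h
      · omega
      · have : ∀ t, 5 * (t + 5) + 2 ≤ 2 ^ (t + 5) := by
          intro t
          induction t with
          | zero => norm_num
          | succ t ih => rw [show t + 1 + 5 = t + 5 + 1 by ring, pow_succ]; omega
        have := this (s - 5)
        rw [show s - 5 + 5 = s by omega] at this
        omega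
    have : 1 ≤ 2 ^ a := Nat.one_le_two_pow
    obtain ⟨x, hx⟩ := Nat.exists_eq_add_of_le this
    rw [hx, Nat.add_sub_cancel_left]
    have := Nat.mul_le_mul_left x (show 1 ≤ o by omega)
    omega

end CfsgLib.PermNilp
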