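import Cfsg.Agent.Lib.PermNilp.Arith
import Cfsg.Agent.Lib.Solvable.NilpotentSubgroups

/-!
Order bound for nilpotent subgroups of `Sym α` and `Alt α`.
-/

set_option autoImplicit false

open scoped Nat
open Equiv MulAction

namespace CfsgLib.PermNilp

universe u v

section transitive

variable {G : Type u} [Group G] [Finite G] {α : Type v} [Finite α] [MulAction G α] [FaithfulSMul G α]
  [MulAction.IsPretransitive G α] [Group.IsNilpotent G]

theorem factorization_le (p : ℕ) [Fact p.Prime] (a : α) :
    (Nat.card G).factorization p ≤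
      (p ^ (Nat.card α).factorization p - 1) / (p - 1) := by
  have hp : p.Prime := Fact.out
  haveI hne : Nonempty α := ⟨a⟩
  obtain ⟨P⟩ := (inferInstance : Nonempty (Sylow p G))
  haveI hPn : (P : Subgroup G).Normal :=
    Sylow.normal_of_normalizerCondition normalizerCondition_of_isNilpotent P
  set A := stabilizer G a
  have hidx : A.index = Nat.card α := index_stabilizer_of_transitive G a
  -- the orbit of `a` under the Sylow subgroup has `p`-part size
  obtain ⟨k, hk⟩ := IsPGroup.card_orbit (α := α) P.2 a
  have hmul : Nat.card (orbit ↥(P : Subgroup G) a) * Nat.card (stabilizer ↥(P : Subgroup G) a) =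
      Nat.card ↥(P : Subgroup G) := by
    rw [Nat.card_coe_set_eq, ← index_stabilizer, Subgroup.index_mul_card]
  have hsub : stabilizer ↥(P : Subgroup G) a = A.subgroupOf (P : Subgroup G) := by
    ext x; rfl
  have hord : k ≤ (Nat.card α).factorization p := by
    -- `[P : P ∩ A]` divides `[G : A]`
    have hA : (Nat.card A).factorization p = (Nat.card ↥((P : Subgroup G).subgroupOf A)).factorization p := by
      rw [← Subgroup.card_mul_index ((P : Subgroup G).subgroupOf A),
        Nat.factorization_mul Nat.card_pos.ne' Subgroup.index_ne_zero_of_finite]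
      simp only [Finsupp.coe_add, Pi.add_apply, add_eq_left]
      exact Nat.factorization_eq_zero_of_not_dvd fun hd => P.not_dvd_index
        (hd.trans (Subgroup.relIndex_dvd_index_of_normal (P : Subgroup G) A))
    have hAP : Nat.card ↥(stabilizer ↥(P : Subgroup G) a) = Nat.card ↥((P : Subgroup G).subgroupOf A) := by
      rw [hsub]
      exact Nat.card_congr
        { toFun := fun x => ⟨⟨x.1, x.2⟩, x.1.2⟩
          invFun := fun x => ⟨⟨x.1, x.2⟩, x.1.2⟩
          left_inv := fun _ => rfl
          right_inv := fun _ => rfl }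
    have h1 := congrArg (fun n => n.factorization p) hmul
    have h2 := congrArg (fun n => n.factorization p) (A.index_mul_card)
    simp only [hidx, hk, hAP] at h1 h2
    rw [Nat.factorization_mul (pow_ne_zero _ hp.ne_zero) Nat.card_pos.ne', P.card_eq_multiplicity,
      Nat.Prime.factorization_pow hp, Nat.Prime.factorization_pow hp] at h1
    rw [Nat.factorization_mul Nat.card_pos.ne' Nat.card_pos.ne'] at h2
    simp at h1 h2
    omega
  -- faithful action on the orbit
  let f : ↥(P : Subgroup G) →* Perm (orbit ↥(P : Subgroup G) a) := MulAction.toPermHom _ _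
  have hf : Function.Injective f := by
    rw [injective_iff_map_eq_one]
    intro x hx
    have hfix : ∀ b ∈ orbit ↥(P : Subgroup G) a, (x : G) • b = b := fun b hb =>
      congrArg Subtype.val (Equiv.congr_fun hx ⟨b, hb⟩)
    refine Subtype.ext (FaithfulSMul.eq_of_smul_eq_smul (α := α) fun b => ?_)
    obtain ⟨Q, hQ⟩ := Subgroup.exists_right_complement'_of_coprime (N := (P : Subgroup G))
      (P.card_coprime_index)
    obtain ⟨g, rfl⟩ := MulAction.exists_smul_eq G a b
    obtain ⟨⟨q, y⟩, rfl⟩ := (Subgroup.IsComplement'.symm hQ).2 g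
    have hcomm : Commute (x : G) (q : G) := by
      refine CfsgLib.NilpotentSubgroups.commute_of_orderOf_coprime ?_
      obtain ⟨j, hj⟩ := IsPGroup.iff_orderOf.1 P.isPGroup' x
      rw [Subgroup.orderOf_coe, hj]
      exact (CfsgLib.NilpotentSubgroups.orderOf_coprime_of_mem_complement (P := P) hQ.symm q.2).symm.pow_left j
    show (x : G) • ((q : G) * (y : G)) • a = (1 : G) • ((q : G) * (y : G)) • a
    rw [one_smul, smul_smul, ← mul_assoc, hcomm.eq, mul_assoc, mul_smul, mul_smul, mul_smul,
      hfix ((y : G) • a) ⟨y, rfl⟩]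
  have h1 := Subgroup.card_dvd_of_injective f hf
  rw [Nat.card_perm, hk, P.card_eq_multiplicity, hp.pow_dvd_iff_le_factorization (Nat.factorial_ne_zero _),
    Nat.factorization_def (p ^ k)! hp, val_factorial_prime_pow hp] at h1
  exact h1.trans (Nat.div_le_div_right (Nat.sub_le_sub_right (Nat.pow_le_pow_right hp.pos hord) 1))

theorem card_le_transBound [Nonempty α] : Nat.card G ≤ transBound (Nat.card α) := by
  obtain ⟨a⟩ := (inferInstance : Nonempty α)
  have hsub : (Nat.card G).primeFactors ⊆ (Nat.card α).primeFactors := by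
    intro p hp
    obtain ⟨hpp, hdvd, -⟩ := Nat.mem_primeFactors.1 hp
    haveI : Fact p.Prime := ⟨hpp⟩
    refine Nat.mem_primeFactors.2 ⟨hpp, ?_, Nat.card_pos.ne'⟩
    by_contra hnd
    have := factorization_le (G := G) p a
    rw [Nat.factorization_eq_zero_of_not_dvd hnd, pow_zero, Nat.sub_self, Nat.zero_div,
      Nat.le_zero] at this
    exact (hpp.factorization_pos_of_dvd Nat.card_pos.ne' hdvd).ne' this
  rw [← Nat.prod_factorization_pow_eq_self (Nat.card_pos (α := G)).ne', Finsupp.prod,
    Nat.support_factorization]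
  calc ∏ p ∈ (Nat.card G).primeFactors, p ^ (Nat.card G).factorization p
      ≤ ∏ p ∈ (Nat.card G).primeFactors, p ^ ((p ^ (Nat.card α).factorization p - 1) / (p - 1)) := by
        refine Finset.prod_le_prod' fun p hp => ?_
        haveI : Fact p.Prime := ⟨Nat.prime_of_mem_primeFactors hp⟩
        exact Nat.pow_le_pow_right (Nat.prime_of_mem_primeFactors hp).pos (factorization_le p a)
    _ ≤ transBound (Nat.card α) :=
        Finset.prod_le_prod_of_subset_of_one_le' hsub fun p hp _ =>
          Nat.one_le_pow _ _ (Nat.prime_of_mem_primeFactors hp).pos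

theorem card_two_part [Nonempty α] (h : ordCompl[2] (Nat.card α) = 1) :
    ∃ k, Nat.card G = 2 ^ k := by
  obtain ⟨a⟩ := (inferInstance : Nonempty α)
  refine ⟨_, Nat.eq_prime_pow_of_unique_prime_dvd Nat.card_pos.ne' fun {p} hp hdvd => ?_⟩
  haveI : Fact p.Prime := ⟨hp⟩
  by_contra hp2
  have := factorization_le (G := G) p a
  have hα : (Nat.card α).factorization p = 0 := by
    refine Nat.factorization_eq_zero_of_not_dvd fun hd => hp2 ?_
    rw [← Nat.ordProj_mul_ordCompl_eq_self (Nat.card α) 2, h, mul_one] at hd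
    exact (Nat.prime_dvd_prime_iff_eq hp Nat.prime_two).1 (hp.dvd_of_dvd_pow hd)
  rw [hα, pow_zero, Nat.sub_self, Nat.zero_div, Nat.le_zero] at this
  exact (hp.factorization_pos_of_dvd Nat.card_pos.ne' hdvd).ne' this

end transitive

section bound

variable {α : Type u} [Fintype α] [DecidableEq α]

theorem le_sylTwo_of_two_group {N : Subgroup (Perm α)} {k : ℕ} (hk : Nat.card N = 2 ^ k) :
    Nat.card N ≤ sylTwo (Fintype.card α) := by
  have h := Subgroup.card_subgroup_dvd_card N
  rw [Nat.card_perm, Nat.card_eq_fintype_card (α := α), hk,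
    Nat.prime_two.pow_dvd_iff_le_factorization (Nat.factorial_ne_zero _)] at h
  rw [sylTwo_eq_factorization, hk]
  exact Nat.pow_le_pow_right (by norm_num) h

theorem two_mul_le_sylTwo_of_two_group {N : Subgroup (Perm α)} (hA : N ≤ alternatingGroup α) {k : ℕ}
    (hk : Nat.card N = 2 ^ k) [Nontrivial α] : 2 * Nat.card N ≤ sylTwo (Fintype.card α) := by
  have h := Nat.mul_dvd_mul_left 2 (Subgroup.card_dvd_of_le hA)
  rw [Nat.card_eq_fintype_card (α := ↥(alternatingGroup α)), two_mul_card_alternatingGroup,
    Fintype.card_perm, hk, ← pow_succ', Nat.prime_two.pow_dvd_iff_le_factorization (Nat.factorial_ne_zero _)] at h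
  rw [sylTwo_eq_factorization, hk, ← pow_succ']
  exact Nat.pow_le_pow_right (by norm_num) h

theorem transitive_le (N : Subgroup (Perm α)) [Group.IsNilpotent N] [IsPretransitive N α] [Nonempty α] :
    Nat.card N ≤ bndSym (Fintype.card α) ∧ (N ≤ alternatingGroup α → Nat.card N ≤ bndAlt (Fintype.card α)) := by
  by_cases ho : ordCompl[2] (Nat.card α) = 1
  · obtain ⟨k, hk⟩ := card_two_part (G := ↥N) (α := α) ho
    refine ⟨(le_sylTwo_of_two_group hk).trans (sylTwo_le_bndSym _), fun hA => ?_⟩
    rcases subsingleton_or_nontrivial α with hs | hs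
    · have hN : Nat.card N = 1 := Nat.card_eq_one_iff_unique.2 ⟨⟨fun x y => Subtype.ext (Subsingleton.elim _ _)⟩, ⟨1⟩⟩
      rw [hN, Fintype.card_eq_one_iff_nonempty_unique.2 ⟨uniqueOfSubsingleton (Classical.arbitrary α)⟩]
      decide
    · have h1 := two_mul_le_sylTwo_of_two_group hA hk
      have h2 := sylTwo_le_bndSym (Fintype.card α)
      have h3 := bndSym_le_two_mul (Fintype.card α)
      omega
  · have h := card_le_transBound (G := ↥N) (α := α)
    rw [Nat.card_eq_fintype_card (α := α)] at h ho
    obtain ⟨h1, h2⟩ := transBound_le Fintype.card_ne_zero ho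
    exact ⟨h.trans h1, fun _ => h.trans h2⟩

end bound

theorem card_le_bnd : ∀ (n : ℕ) {α : Type u} [Fintype α] [DecidableEq α] (N : Subgroup (Perm α)),
    Group.IsNilpotent N → Fintype.card α = n →
    Nat.card N ≤ bndSym n ∧ (N ≤ alternatingGroup α → Nat.card N ≤ bndAlt n) := by
  intro n
  induction n using Nat.strong_induction_on with
  | _ n ih =>
    intro α _ _ N hN hn
    subst hn
    rcases isEmpty_or_nonempty α with he | hne
    · have h1 : Nat.card N = 1 := Nat.card_eq_one_iff_unique.2 ⟨⟨fun x y => Subtype.ext (Subsingleton.elim _ _)⟩, ⟨1⟩⟩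
      rw [h1, Fintype.card_eq_zero]
      exact ⟨bndSym_pos 0, fun _ => le_rfl⟩
    by_cases htr : IsPretransitive N α
    · exact transitive_le N
    obtain ⟨a⟩ := hne
    classical
    set p : α → Prop := fun x => x ∈ orbit N a with hp
    have hinv : ∀ (g : ↥N) (x : α), p ((g : Perm α) x) ↔ p x := fun g x =>
      ⟨fun h => by simpa [Subgroup.smul_def, p] using mem_orbit_of_mem_orbit g⁻¹ h,
        fun h => mem_orbit_of_mem_orbit g h⟩
    have hinv' : ∀ (g : ↥N) (x : α), ¬ p ((g : Perm α) x) ↔ ¬ p x := fun g x => not_congr (hinv g x)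
    let r₁ : ↥N →* Perm {x // p x} :=
      { toFun := fun g => (g : Perm α).subtypePerm (hinv g)
        map_one' := Equiv.ext fun _ => rfl
        map_mul' := fun _ _ => Equiv.ext fun _ => rfl }
    let r₂ : ↥N →* Perm {x // ¬ p x} :=
      { toFun := fun g => (g : Perm α).subtypePerm (hinv' g)
        map_one' := Equiv.ext fun _ => rfl
        map_mul' := fun _ _ => Equiv.ext fun _ => rfl }
    haveI h1N : Group.IsNilpotent ↥r₁.range := Group.nilpotent_of_surjective r₁.rangeRestrict r₁.rangeRestrict_surjective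
    haveI h2N : Group.IsNilpotent ↥r₂.range := Group.nilpotent_of_surjective r₂.rangeRestrict r₂.rangeRestrict_surjective
    have hcard : Fintype.card {x // p x} + Fintype.card {x // ¬ p x} = Fintype.card α := by
      rw [← Fintype.card_sum]; exact Fintype.card_congr (Equiv.sumCompl p)
    have hpos1 : 0 < Fintype.card {x // p x} := Fintype.card_pos_iff.2 ⟨⟨a, mem_orbit_self a⟩⟩
    have hpos2 : 0 < Fintype.card {x // ¬ p x} := by
      refine Fintype.card_pos_iff.2 (nonempty_subtype.2 ?_)
      by_contra hall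
      push Not at hall
      exact htr ⟨fun x y => by
        obtain ⟨g, rfl⟩ := hall x
        obtain ⟨g', rfl⟩ := hall y
        exact ⟨g' * g⁻¹, by simp [smul_smul]⟩⟩
    obtain ⟨b1, a1⟩ := ih _ (by omega) r₁.range h1N rfl
    obtain ⟨b2, a2⟩ := ih _ (by omega) r₂.range h2N rfl
    let f : ↥N →* ↥r₁.range × ↥r₂.range := r₁.rangeRestrict.prod r₂.rangeRestrict
    have hf : Function.Injective f := by
      intro g g' h
      refine Subtype.ext (Equiv.ext fun x => ?_)
      by_cases hx : p x
      · exact congrArg Subtype.val (Equiv.congr_fun (congrArg (fun q => (q.1 : Perm {x // p x})) h) ⟨x, hx⟩)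
      · exact congrArg Subtype.val (Equiv.congr_fun (congrArg (fun q => (q.2 : Perm {x // ¬ p x})) h) ⟨x, hx⟩)
    have hle : Nat.card N ≤ Nat.card ↥r₁.range * Nat.card ↥r₂.range := by
      rw [← Nat.card_prod]; exact Nat.card_le_card_of_injective f hf
    refine ⟨hle.trans ((Nat.mul_le_mul b1 b2).trans (hcard ▸ bndSym_mul _ _)), fun hA => ?_⟩
    rw [← hcard]
    by_cases heven : r₁.range ≤ alternatingGroup _ ∧ r₂.range ≤ alternatingGroup _
    · exact hle.trans ((Nat.mul_le_mul (a1 heven.1) (a2 heven.2)).trans (bndAlt_mul _ _))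
    · let χ : ↥r₁.range × ↥r₂.range →* ℤˣ :=
        ((Perm.sign.comp r₁.range.subtype).comp (MonoidHom.fst _ _)) *
        ((Perm.sign.comp r₂.range.subtype).comp (MonoidHom.snd _ _))
      have hsign : ∀ g : ↥N, Perm.sign (r₁ g) * Perm.sign (r₂ g) = 1 := fun g => by
        rw [← Perm.sign_subtypeCongr]
        refine Eq.trans (congrArg Perm.sign (Equiv.ext fun x => ?_)) (hA g.2)
        by_cases hx : p x
        · rw [Perm.subtypeCongr.left_apply _ _ hx]; rfl
        · rw [Perm.subtypeCongr.right_apply _ _ hx]; rfl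
      have hker : f.range ≤ χ.ker := by
        rintro _ ⟨g, rfl⟩
        exact hsign g
      have hsurj : χ.ker ≠ ⊤ := by
        intro htop
        refine heven ⟨?_, ?_⟩
        · intro x hx
          have : χ (⟨x, hx⟩, 1) = 1 := (χ.mem_ker).1 (htop ▸ Subgroup.mem_top _)
          rw [Perm.mem_alternatingGroup]
          simpa [χ] using this
        · intro x hx
          have : χ (1, ⟨x, hx⟩) = 1 := (χ.mem_ker).1 (htop ▸ Subgroup.mem_top _)
          rw [Perm.mem_alternatingGroup]
          simpa [χ] using this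
      have h2 : 2 ≤ χ.ker.index := by
        have := Subgroup.index_ne_zero_of_finite (H := χ.ker)
        have := mt Subgroup.index_eq_one.1 hsurj
        omega
      have h3 : 2 * Nat.card N ≤ Nat.card ↥r₁.range * Nat.card ↥r₂.range := by
        rw [← Nat.card_prod, ← χ.ker.index_mul_card, Nat.card_congr (MonoidHom.ofInjective hf).toEquiv]
        exact Nat.mul_le_mul h2 (Nat.le_of_dvd Nat.card_pos (Subgroup.card_dvd_of_le hker))
      have h4 := h3.trans ((Nat.mul_le_mul b1 b2).trans ((bndSym_mul _ _).trans (bndSym_le_two_mul _)))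
      omega

end CfsgLib.PermNilp
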