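import Cfsg.Agent.Lib.PermNilp.Bound

/-!
Nilpotent subgroups of `Sym n`, `Alt n` of the largest order, `n ≡ 3 (mod 4)`.
-/

set_option autoImplicit false

open scoped Nat
open Equiv

namespace CfsgLib.PermNilp

universe u v

theorem card_sylow_perm {α : Type u} [Fintype α] [DecidableEq α] (P : Sylow 2 (Perm α)) :
    Nat.card ↥(P : Subgroup (Perm α)) = sylTwo (Fintype.card α) := by
  rw [P.card_eq_multiplicity, sylTwo_eq_factorization, Nat.card_perm, Nat.card_eq_fintype_card (α := α)]

theorem two_mul_card_alt {α : Type u} [Fintype α] [DecidableEq α] [Nontrivial α] :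
    2 * Nat.card ↥(alternatingGroup α) = (Fintype.card α)! := by
  rw [Nat.card_eq_fintype_card, two_mul_card_alternatingGroup, Fintype.card_perm]

theorem two_mul_card_sylow_alt {α : Type u} [Fintype α] [DecidableEq α] [Nontrivial α]
    (P : Sylow 2 ↥(alternatingGroup α)) :
    2 * Nat.card ↥(P : Subgroup ↥(alternatingGroup α)) = sylTwo (Fintype.card α) := by
  rw [P.card_eq_multiplicity, sylTwo_eq_factorization, ← two_mul_card_alt (α := α),
    Nat.factorization_mul two_ne_zero Nat.card_pos.ne', Nat.prime_two.factorization]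
  simp [pow_add]

variable {α : Type u} [Fintype α] [DecidableEq α]

theorem card_centralizer_three {z : Perm α} (hz : z.IsThreeCycle) :
    Nat.card ↥(Subgroup.centralizer {z}) = 3 * (Fintype.card α - 3)! := by
  have hz' : z.cycleType = {3} := hz
  rw [Equiv.Perm.nat_card_centralizer, hz']
  simp [mul_comm]

theorem factorization_centralizer_three {z : Perm α} (hz : z.IsThreeCycle) :
    2 ^ (Nat.card ↥(Subgroup.centralizer {z})).factorization 2 = sylTwo (Fintype.card α - 3) := by
  rw [card_centralizer_three hz, sylTwo_eq_factorization,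
    Nat.factorization_mul (by norm_num) (Nat.factorial_ne_zero _), Nat.prime_three.factorization]
  simp

/-- The structure of a nilpotent subgroup of order `3 · 2^e` with `2^e` large. -/
theorem structure_three {H : Type v} [Group H] [Finite H] (ι : H →* Perm α) (hι : Function.Injective ι)
    (N : Subgroup H) (hN : Group.IsNilpotent N) {e : ℕ} (hn : Fintype.card α % 4 = 3)
    (hc : Nat.card N = 3 * 2 ^ e) (he : sylTwo (Fintype.card α - 3) ≤ 2 * 2 ^ e) :
    ∃ (z : H) (Q : Subgroup H), (ι z).IsThreeCycle ∧ Nat.card Q = 2 ^ e ∧ Q ≤ Subgroup.centralizer {z} ∧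
      N = Subgroup.zpowers z ⊔ Q := by
  haveI : Fact (Nat.Prime 3) := ⟨Nat.prime_three⟩
  haveI : Fact (Nat.Prime 2) := ⟨Nat.prime_two⟩
  obtain ⟨⟨z, hzN⟩, hz⟩ := exists_prime_orderOf_dvd_card' (G := ↥N) 3 (hc ▸ dvd_mul_right 3 _)
  rw [Subgroup.orderOf_mk] at hz
  obtain ⟨S⟩ := (inferInstance : Nonempty (Sylow 2 ↥N))
  set Q := (S : Subgroup ↥N).map N.subtype with hQdef
  have hQc : Nat.card Q = 2 ^ e := by
    rw [hQdef, Subgroup.card_map_of_injective N.subtype_injective, S.card_eq_multiplicity, hc,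
      Nat.factorization_mul (by norm_num) (by positivity), Nat.prime_three.factorization,
      Nat.prime_two.factorization_pow]
    simp
  have hQz : Q ≤ Subgroup.centralizer {z} := by
    rintro _ ⟨q, hq, rfl⟩
    rw [Subgroup.mem_centralizer_singleton_iff]
    have hcop : (orderOf q).Coprime (orderOf (⟨z, hzN⟩ : ↥N)) := by
      obtain ⟨j, hj⟩ := IsPGroup.iff_orderOf.1 S.isPGroup' ⟨q, hq⟩
      rw [Subgroup.orderOf_mk] at hj
      rw [hj, show orderOf (⟨z, hzN⟩ : ↥N) = 3 from (Subgroup.orderOf_mk z hzN).trans hz]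
      exact (Nat.Coprime.pow_left j (by norm_num))
    exact congrArg Subtype.val (CfsgLib.NilpotentSubgroups.commute_of_orderOf_coprime hcop).eq
  have hQN : Q ≤ N := Subgroup.map_subtype_le _
  refine ⟨z, Q, ?_, hQc, hQz, ?_⟩
  · -- `z` is a single three-cycle
    have hord : orderOf (ι z) = 3 := (orderOf_injective ι hι z).trans hz
    obtain ⟨k, hk⟩ := Equiv.Perm.cycleType_prime_order (σ := ι z) (hord ▸ Nat.prime_three)
    rw [hord] at hk
    rcases Nat.eq_zero_or_pos k with rfl | hkpos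
    · show (ι z).cycleType = {3}
      rw [hk]; rfl
    exfalso
    have hdvd : 2 ^ e ∣ Nat.card ↥(Subgroup.centralizer {ι z}) := by
      rw [← hQc, ← Subgroup.card_map_of_injective hι]
      refine Subgroup.card_dvd_of_le ?_
      rintro _ ⟨q, hq, rfl⟩
      rw [Subgroup.mem_centralizer_singleton_iff, ← map_mul, ← map_mul,
        Subgroup.mem_centralizer_singleton_iff.1 (hQz hq)]
    have hle : 3 * (k + 1) ≤ Fintype.card α := by
      have := Equiv.Perm.sum_cycleType_le (ι z)
      rw [hk, Multiset.sum_replicate, smul_eq_mul, mul_comm] at this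
      exact this
    rw [Equiv.Perm.nat_card_centralizer, hk, Multiset.sum_replicate, Multiset.prod_replicate, smul_eq_mul,
      Multiset.toFinset_replicate, if_neg (Nat.succ_ne_zero k), Finset.prod_singleton,
      Multiset.count_replicate_self, Nat.prime_two.pow_dvd_iff_le_factorization (by positivity),
      Nat.factorization_mul (mul_ne_zero (Nat.factorial_ne_zero _) (by positivity)) (Nat.factorial_ne_zero _),
      Nat.factorization_mul (Nat.factorial_ne_zero _) (by positivity), Nat.prime_three.factorization_pow] at hdvd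
    simp only [Finsupp.coe_add, Pi.add_apply, Finsupp.single_eq_of_ne (show (2 : ℕ) ≠ 3 by norm_num),
      add_zero] at hdvd
    have h1 : 2 ^ e ≤ sylTwo (Fintype.card α - (k + 1) * 3) * sylTwo (k + 1) := by
      rw [sylTwo_eq_factorization, sylTwo_eq_factorization, ← pow_add]
      exact Nat.pow_le_pow_right (by norm_num) hdvd
    have h2 : sylTwo (Fintype.card α - (k + 1) * 3) * sylTwo (k + 1) ≤ sylTwo (Fintype.card α - 4) :=
      (sylTwo_mul_le _ _).trans (sylTwo_mono (by omega))
    have h3 : 4 * sylTwo (Fintype.card α - 4) ≤ sylTwo (Fintype.card α - 3) := by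
      rw [sylTwo_eq, sylTwo_eq]
      refine le_trans (le_of_eq (show 4 * 2 ^ _ = 2 ^ (vTwo (Fintype.card α - 4) + 2) by rw [pow_add]; ring))
        (Nat.pow_le_pow_right (by norm_num) ?_)
      have hval := val_four (show (Fintype.card α - 4 + 1) % 4 = 0 by omega) (by omega)
      rw [show Fintype.card α - 3 = Fintype.card α - 4 + 1 by omega, vTwo_succ]
      omega
    have := Nat.two_pow_pos e
    omega
  · refine (Subgroup.eq_of_le_of_card_ge (sup_le ((Subgroup.zpowers_le).2 hzN) hQN) ?_).symm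
    rw [hc]
    refine Nat.le_of_dvd Nat.card_pos (Nat.Coprime.mul_dvd_of_dvd_of_dvd (Nat.Coprime.pow_right e (by norm_num)) ?_ ?_)
    · have := Subgroup.card_dvd_of_le (le_sup_left : Subgroup.zpowers z ≤ Subgroup.zpowers z ⊔ Q)
      rwa [Nat.card_zpowers, hz] at this
    · exact hQc ▸ Subgroup.card_dvd_of_le (le_sup_right : Q ≤ Subgroup.zpowers z ⊔ Q)

omit [Fintype α] [DecidableEq α] in
/-- Groups `⟨z⟩ Q` with `Q` a Sylow `2`-subgroup of the centraliser of `z` are conjugate. -/
theorem conj_of_data {H : Type v} [Group H] [Finite H] {z₁ z₂ : H} (hz : IsConj z₁ z₂) {Q₁ Q₂ : Subgroup H}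
    (h₁ : Q₁ ≤ Subgroup.centralizer {z₁}) (h₂ : Q₂ ≤ Subgroup.centralizer {z₂}) {e : ℕ}
    (hc₁ : Nat.card Q₁ = 2 ^ e) (hc₂ : Nat.card Q₂ = 2 ^ e)
    (he : (Nat.card ↥(Subgroup.centralizer {z₂})).factorization 2 = e) :
    ∃ g : H, Subgroup.zpowers z₂ ⊔ Q₂ = (Subgroup.zpowers z₁ ⊔ Q₁).map (MulAut.conj g).toMonoidHom := by
  haveI : Fact (Nat.Prime 2) := ⟨Nat.prime_two⟩
  obtain ⟨g, hg⟩ := isConj_iff.1 hz
  set C := Subgroup.centralizer {z₂}
  set R := Q₁.map (MulAut.conj g).toMonoidHom
  have hR : R ≤ C := by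
    rintro _ ⟨q, hq, rfl⟩
    rw [Subgroup.mem_centralizer_singleton_iff, ← hg, MulEquiv.coe_toMonoidHom, MulAut.conj_apply]
    have := Subgroup.mem_centralizer_singleton_iff.1 (h₁ hq)
    calc g * q * g⁻¹ * (g * z₁ * g⁻¹) = g * (q * z₁) * g⁻¹ := by group
      _ = g * (z₁ * q) * g⁻¹ := by rw [this]
      _ = _ := by group
  have hRc : Nat.card R = 2 ^ e :=
    (Subgroup.card_map_of_injective (f := (MulAut.conj g).toMonoidHom) (MulAut.conj g).injective).trans hc₁
  let S₁ : Sylow 2 ↥C := Sylow.ofCard (R.subgroupOf C)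
    (by rw [he, Nat.card_congr (Subgroup.subgroupOfEquivOfLe hR).toEquiv, hRc])
  let S₂ : Sylow 2 ↥C := Sylow.ofCard (Q₂.subgroupOf C)
    (by rw [he, Nat.card_congr (Subgroup.subgroupOfEquivOfLe h₂).toEquiv, hc₂])
  obtain ⟨c, hcS⟩ := MulAction.exists_smul_eq ↥C S₁ S₂
  refine ⟨(c : H) * g, ?_⟩
  have hconj : (MulAut.conj ((c : H) * g)).toMonoidHom =
      (MulAut.conj (c : H)).toMonoidHom.comp (MulAut.conj g).toMonoidHom := by
    ext x; simp [mul_assoc]
  have hsub : R.map (MulAut.conj (c : H)).toMonoidHom = Q₂ := by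
    have h := congrArg (fun S : Sylow 2 ↥C => (S : Subgroup ↥C).map C.subtype) hcS
    simp only [S₁, S₂, Sylow.coe_subgroup_smul, Sylow.coe_ofCard] at h
    rw [Subgroup.map_subgroupOf_eq_of_le h₂] at h
    refine Eq.trans ?_ h
    ext x
    constructor
    · rintro ⟨r, hr, rfl⟩
      exact ⟨c * ⟨r, hR hr⟩ * c⁻¹, ⟨⟨r, hR hr⟩, hr, rfl⟩, rfl⟩
    · rintro ⟨_, ⟨w, hw, rfl⟩, rfl⟩
      exact ⟨w, hw, rfl⟩
  rw [Subgroup.map_sup, hconj, ← Subgroup.map_map Q₁, hsub, MonoidHom.map_zpowers, MonoidHom.comp_apply]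
  congr 2
  simp only [MulEquiv.coe_toMonoidHom, MulAut.conj_apply, hg]
  exact (mul_inv_eq_iff_eq_mul.2 (Subgroup.mem_centralizer_singleton_iff.1 c.2)).symm

theorem card_centralizer_alt (h5 : 5 ≤ Fintype.card α) (z : ↥(alternatingGroup α))
    (hz : (z : Perm α).IsThreeCycle) :
    2 * 2 ^ (Nat.card ↥(Subgroup.centralizer {z})).factorization 2 = sylTwo (Fintype.card α - 3) := by
  set C := Subgroup.centralizer {(z : Perm α)}
  obtain ⟨a, ha, b, hb, hab⟩ : ∃ a ∈ (z : Perm α).supportᶜ, ∃ b ∈ (z : Perm α).supportᶜ, a ≠ b := by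
    refine Finset.one_lt_card.1 ?_
    rw [Finset.card_compl, hz.card_support]
    omega
  have hswap : Equiv.swap a b ∈ C := by
    rw [Subgroup.mem_centralizer_singleton_iff]
    refine (Equiv.Perm.Disjoint.commute ?_).eq
    intro x
    rw [Finset.mem_compl, Equiv.Perm.notMem_support] at ha hb
    by_cases hxa : x = a
    · exact Or.inr (hxa ▸ ha)
    by_cases hxb : x = b
    · exact Or.inr (hxb ▸ hb)
    exact Or.inl (Equiv.swap_apply_of_ne_of_ne hxa hxb)
  let χ : ↥C →* ℤˣ := Perm.sign.comp C.subtype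
  have hsurj : Function.Surjective χ := fun u => by
    rcases Int.units_eq_one_or u with rfl | rfl
    · exact ⟨1, map_one _⟩
    · exact ⟨⟨_, hswap⟩, Perm.sign_swap hab⟩
  have hidx : χ.ker.index = 2 := by
    rw [Subgroup.index_ker, MonoidHom.range_eq_top.2 hsurj, Subgroup.card_top, Nat.card_eq_fintype_card,
      Fintype.card_units_int]
  have he : Nat.card ↥χ.ker = Nat.card ↥(Subgroup.centralizer {z}) :=
    Nat.card_congr
      { toFun := fun x => ⟨⟨x.1.1, x.2⟩, Subgroup.mem_centralizer_singleton_iff.2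
          (Subtype.ext (Subgroup.mem_centralizer_singleton_iff.1 x.1.2))⟩
        invFun := fun x => ⟨⟨x.1.1, Subgroup.mem_centralizer_singleton_iff.2
          (congrArg Subtype.val (Subgroup.mem_centralizer_singleton_iff.1 x.2))⟩, x.1.2⟩
        left_inv := fun _ => rfl
        right_inv := fun _ => rfl }
  rw [← factorization_centralizer_three hz, ← χ.ker.index_mul_card, hidx, he,
    Nat.factorization_mul two_ne_zero Nat.card_pos.ne', Nat.prime_two.factorization]
  simp [pow_add]

end CfsgLib.PermNilp
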